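import Groth.Agent.RatMapExt.Basic
import Mathlib.AlgebraicGeometry.FunctionField
import Mathlib.AlgebraicGeometry.Morphisms.QuasiFinite
import Mathlib.AlgebraicGeometry.Fiber

/-!
# Birational morphisms at isolated points of normal fibres

* `exists_isOpenImmersion`: near a point isolated in its fibre over a normal point, a birational morphism
  locally of finite type is an open immersion.
* `exists_isIso_restrict`: if moreover separated, it is an isomorphism over a neighbourhood of the image.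
-/

set_option autoImplicit false

universe u

open CategoryTheory AlgebraicGeometry TopologicalSpace

namespace Groth.Agent.BiratZMT

variable {X Y : Scheme.{u}} [IsIntegral X] [IsIntegral Y] (f : X ⟶ Y) [LocallyOfFiniteType f]

theorem exists_isOpenImmersion (hgen : f (genericPoint X) = genericPoint Y)
    (hbir : IsIso (f.stalkMap (genericPoint X))) (x : X) (hy : IsIntegrallyClosed (Y.presheaf.stalk (f x)))
    {O : X.Opens} (hxO : x ∈ O) (hO : ∀ z ∈ O, f z = f x → z = x) :
    ∃ W : X.Opens, x ∈ W ∧ IsOpenImmersion (W.ι ≫ f) := by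
  classical
  obtain ⟨V, hV, hyV, -⟩ := exists_isAffineOpen_mem_and_subset (x := f x) (U := (⊤ : Y.Opens)) trivial
  obtain ⟨Wa, hWa, hxWa, hle⟩ := exists_isAffineOpen_mem_and_subset (x := x) (U := O ⊓ f ⁻¹ᵁ V) ⟨hxO, hyV⟩
  have hWV : Wa ≤ f ⁻¹ᵁ V := fun z hz => (hle hz).2
  haveI : Nonempty V := ⟨⟨f x, hyV⟩⟩
  haveI : Nonempty Wa := ⟨⟨x, hxWa⟩⟩
  let A := Γ(Y, V)
  let B := Γ(X, Wa)
  let K := X.functionField
  letI : Algebra A B := (f.appLE V Wa hWV).hom.toAlgebra
  haveI : Algebra.FiniteType A B := HasRingHomProperty.appLE (P := @LocallyOfFiniteType) f inferInstance ⟨V, hV⟩ ⟨Wa, hWa⟩ hWV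
  have hVgen : f (genericPoint X) ∈ V :=
    hgen ▸ ((genericPoint_spec Y).mem_open_set_iff V.2).2 ⟨f x, trivial, hyV⟩
  let gY : Γ(Y, V) ⟶ X.functionField := Y.presheaf.germ V (f (genericPoint X)) hVgen ≫ f.stalkMap (genericPoint X)
  letI : Algebra A K := gY.hom.toAlgebra
  haveI : IsFractionRing A K := by
    haveI h1 := functionField_isFractionRing_of_isAffineOpen Y V hV
    let e : Y.functionField ≅ X.functionField :=
      eqToIso (congrArg Y.presheaf.stalk hgen.symm) ≪≫ asIso (f.stalkMap (genericPoint X))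
    have hge : ∀ (z : Y) (hz : z ∈ V) (h : genericPoint Y = z),
        Y.germToFunctionField V ≫ eqToHom (congrArg Y.presheaf.stalk h) = Y.presheaf.germ V z hz := by
      rintro z hz rfl
      simp [Scheme.germToFunctionField]
    let ea : Y.functionField ≃ₐ[A] X.functionField := AlgEquiv.ofRingEquiv (f := e.commRingCatIsoToRingEquiv) fun a => by
      show (Y.germToFunctionField V ≫ e.hom) a = gY a
      simp only [e, Iso.trans_hom, eqToIso.hom, asIso_hom, ← Category.assoc, hge _ hVgen hgen.symm, gY]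
    exact IsLocalization.isLocalization_of_algEquiv (nonZeroDivisors A) ea
  let φ : B →ₐ[A] K :=
    { (X.germToFunctionField Wa).hom with
      commutes' := fun a => by
        show (f.appLE V Wa hWV ≫ X.germToFunctionField Wa) a = gY a
        congr 2
        rw [Scheme.Hom.appLE, Category.assoc]
        simp only [gY, Scheme.germToFunctionField, TopCat.Presheaf.germ_res, Scheme.Hom.germ_stalkMap] }
  let p := hV.primeIdealOf ⟨f x, hyV⟩
  let q := hWa.primeIdealOf ⟨x, hxWa⟩
  letI := TopCat.Presheaf.algebra_section_stalk Y.presheaf (⟨f x, hyV⟩ : V)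
  haveI : IsLocalization.AtPrime (Y.presheaf.stalk (f x)) p.asIdeal := hV.isLocalization_stalk ⟨f x, hyV⟩
  have hφinj : Function.Injective φ := X.germToFunctionField_injective Wa
  have hpt : ∀ Q : PrimeSpectrum B, Spec.map (f.appLE V Wa hWV) Q = Q.comap (algebraMap A B) := fun Q => rfl
  have hfs : ∀ Q : PrimeSpectrum B, hV.fromSpec (Q.comap (algebraMap A B)) = f (hWa.fromSpec Q) := by
    intro Q
    rw [← hpt]
    exact congrArg (fun g : Spec Γ(X, Wa) ⟶ Y => g Q) (IsAffineOpen.SpecMap_appLE_fromSpec f hV hWa hWV)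
  have hq : q.comap (algebraMap A B) = p := by
    apply hV.fromSpec.isOpenEmbedding.injective
    rw [hfs, hWa.fromSpec_primeIdealOf, hV.fromSpec_primeIdealOf]
  haveI : IsDomain A := inferInstance
  obtain ⟨t, ht, htb⟩ := RatMapExt.exists_away φ p.asIdeal (Y.presheaf.stalk (f x)) q.asIdeal
    (by rw [(RingHom.injective_iff_ker_eq_bot _).1 hφinj]; exact bot_le)
    (congrArg PrimeSpectrum.asIdeal hq)
    (fun Q hQ _ hQp => by
      let Q' : PrimeSpectrum B := ⟨Q, hQ⟩
      have h1 : f (hWa.fromSpec Q') = f x := by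
        rw [← hfs, show Q'.comap (algebraMap A B) = p from PrimeSpectrum.ext hQp, hV.fromSpec_primeIdealOf]
      have h2 : hWa.fromSpec Q' ∈ Wa := hWa.range_fromSpec.le ⟨Q', rfl⟩
      have h3 : hWa.fromSpec Q' = x := hO _ (hle h2).1 h1
      have h4 : Q' = q := hWa.fromSpec.isOpenEmbedding.injective (h3.trans (hWa.fromSpec_primeIdealOf ⟨x, hxWa⟩).symm)
      exact congrArg PrimeSpectrum.asIdeal h4)
  let W := X.basicOpen (algebraMap A B t)
  let V' := Y.basicOpen t
  have hW : IsAffineOpen W := hWa.basicOpen _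
  have hV' : IsAffineOpen V' := hV.basicOpen _
  have hW_le : W ≤ f ⁻¹ᵁ V' := by
    rw [Scheme.preimage_basicOpen]
    refine le_of_eq_of_le (?_ : W = Wa ⊓ X.basicOpen (f.app V t)) inf_le_right
    show X.basicOpen ((f.appLE V Wa hWV) t) = _
    rw [Scheme.Hom.appLE, CommRingCat.comp_apply, Scheme.basicOpen_res]
  refine ⟨W, ?_, ?_⟩
  · have : hWa.fromSpec q ∈ W := by
      show q ∈ hWa.fromSpec ⁻¹ᵁ W
      rw [hWa.fromSpec_preimage_basicOpen]
      show algebraMap A B t ∉ q.asIdeal
      intro h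
      exact ht (congrArg PrimeSpectrum.asIdeal hq ▸ (h : t ∈ q.asIdeal.comap (algebraMap A B)))
    rwa [hWa.fromSpec_primeIdealOf] at this
  · letI : Algebra Γ(Y, V) Γ(Y, V') := (Y.presheaf.map (homOfLE (Y.basicOpen_le t)).op).hom.toAlgebra
    letI : Algebra Γ(X, Wa) Γ(X, W) := (X.presheaf.map (homOfLE (X.basicOpen_le _)).op).hom.toAlgebra
    haveI : IsLocalization.Away t Γ(Y, V') := hV.isLocalization_basicOpen t
    haveI : IsLocalization.Away (algebraMap A B t) Γ(X, W) := hWa.isLocalization_basicOpen _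
    let θ : Γ(Y, V') ⟶ Γ(X, W) := f.appLE V' W hW_le
    have hθ : ∀ a : A, θ (algebraMap A Γ(Y, V') a) = algebraMap B Γ(X, W) (algebraMap A B a) := by
      intro a
      show (Y.presheaf.map (homOfLE (Y.basicOpen_le t)).op ≫ θ) a =
        (f.appLE V Wa hWV ≫ X.presheaf.map (homOfLE (X.basicOpen_le _)).op) a
      exact congrArg (fun g : Γ(Y, V) ⟶ Γ(X, W) => g a) ((Scheme.Hom.map_appLE _ _ _).trans (Scheme.Hom.appLE_map _ _ _).symm)
    haveI : Nonempty W := ⟨⟨x, by
      have : hWa.fromSpec q ∈ W := by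
        show q ∈ hWa.fromSpec ⁻¹ᵁ W
        rw [hWa.fromSpec_preimage_basicOpen]
        intro h
        exact ht (congrArg PrimeSpectrum.asIdeal hq ▸ (h : t ∈ q.asIdeal.comap (algebraMap A B)))
      rwa [hWa.fromSpec_primeIdealOf] at this⟩⟩
    have ht0 : t ≠ 0 := fun h => ht (h ▸ p.asIdeal.zero_mem)
    have hbij : Function.Bijective θ := by
      constructor
      · intro a b hab
        obtain ⟨a, ⟨_, n, rfl⟩, rfl⟩ := IsLocalization.exists_mk'_eq (Submonoid.powers t) a
        obtain ⟨b, ⟨_, m, rfl⟩, rfl⟩ := IsLocalization.exists_mk'_eq (Submonoid.powers t) b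
        rw [IsLocalization.mk'_eq_iff_eq]
        have e1 := congrArg θ (IsLocalization.mk'_spec Γ(Y, V') a (⟨t ^ n, n, rfl⟩ : Submonoid.powers t))
        have e2 := congrArg θ (IsLocalization.mk'_spec Γ(Y, V') b (⟨t ^ m, m, rfl⟩ : Submonoid.powers t))
        simp only [map_mul, hθ] at e1 e2
        beta_reduce at hab e1 e2
        rw [hab] at e1
        have e3 : θ (algebraMap A Γ(Y, V') (t ^ m * a)) = θ (algebraMap A Γ(Y, V') (t ^ n * b)) := by
          simp only [map_mul, hθ]
          linear_combination (-(algebraMap B Γ(X, W) (algebraMap A B (t ^ m)))) * e1 + (algebraMap B Γ(X, W) (algebraMap A B (t ^ n))) * e2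
        rw [hθ, hθ] at e3
        have inj2 : Function.Injective (algebraMap B Γ(X, W)) := by
          haveI : IsDomain B := inferInstance
          refine IsLocalization.injective Γ(X, W) (M := Submonoid.powers (algebraMap A B t)) (powers_le_nonZeroDivisors_of_noZeroDivisors ?_)
          intro h
          refine ht0 (IsFractionRing.injective A K ?_)
          rw [← φ.commutes, show algebraMap A B t = 0 from h, map_zero, map_zero]
        refine congrArg _ (IsFractionRing.injective A K ?_)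
        rw [← φ.commutes, ← φ.commutes]
        exact congrArg φ (inj2 e3)
      · intro c
        obtain ⟨b, ⟨_, m, rfl⟩, rfl⟩ := IsLocalization.exists_mk'_eq (Submonoid.powers (algebraMap A B t)) c
        obtain ⟨n, a, ha⟩ := htb b
        have hb : b * algebraMap A B t ^ n = algebraMap A B a := hφinj (by
          rw [map_mul, map_pow, φ.commutes, φ.commutes]; exact ha)
        refine ⟨IsLocalization.mk' _ a (⟨t ^ (n + m), n + m, rfl⟩ : Submonoid.powers t), ?_⟩
        rw [eq_comm, IsLocalization.mk'_eq_iff_eq_mul]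
        have e1 := congrArg θ (IsLocalization.mk'_spec Γ(Y, V') a (⟨t ^ (n + m), n + m, rfl⟩ : Submonoid.powers t))
        rw [map_mul, hθ, hθ, ← hb] at e1
        simp only [map_mul, map_pow] at e1 ⊢
        have hu : IsUnit (algebraMap B Γ(X, W) (algebraMap A B t) ^ n) :=
          (IsLocalization.Away.algebraMap_isUnit (algebraMap A B t)).pow n
        apply hu.mul_right_cancel
        rw [← e1]; ring
    haveI : IsIso θ := (ConcreteCategory.isIso_iff_bijective θ).2 hbij
    have h := IsAffineOpen.SpecMap_appLE_fromSpec f hV' hW hW_le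
    haveI : IsOpenImmersion (hW.fromSpec ≫ f) := by
      rw [← h]; infer_instance
    rw [← hW.isoSpec_hom_fromSpec, Category.assoc]
    infer_instance

/-- A separated birational morphism is an isomorphism over a normal point with an isolated preimage. -/
theorem exists_isIso_restrict [IsSeparated f] (hgen : f (genericPoint X) = genericPoint Y)
    (hbir : IsIso (f.stalkMap (genericPoint X))) (x : X) (hy : IsIntegrallyClosed (Y.presheaf.stalk (f x)))
    {O : X.Opens} (hxO : x ∈ O) (hO : ∀ z ∈ O, f z = f x → z = x) :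
    ∃ U : Y.Opens, f x ∈ U ∧ IsIso (f ∣_ U) := by
  obtain ⟨W, hxW, hW⟩ := exists_isOpenImmersion f hgen hbir x hy hxO hO
  haveI := hW
  let U := (W.ι ≫ f).opensRange
  have hxU : f x ∈ U := ⟨⟨x, hxW⟩, rfl⟩
  let s : (U : Scheme.{u}) ⟶ X := (W.ι ≫ f).isoOpensRange.inv ≫ W.ι
  have hs : s ≫ f = U.ι := by
    rw [Category.assoc, Scheme.Hom.isoOpensRange_inv_comp]
  have hrange : ∀ z, s z ∈ f ⁻¹ᵁ U := fun z => by
    show f (s z) ∈ U
    rw [← Scheme.Hom.comp_apply, hs]
    exact z.2
  let s' : (U : Scheme.{u}) ⟶ (f ⁻¹ᵁ U : X.Opens) := IsOpenImmersion.lift (f ⁻¹ᵁ U).ι s (by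
    rintro _ ⟨z, rfl⟩
    exact ⟨⟨s z, hrange z⟩, rfl⟩)
  have hs' : s' ≫ f ∣_ U = 𝟙 _ := by
    rw [← cancel_mono U.ι, Category.assoc, morphismRestrict_ι, IsOpenImmersion.lift_fac_assoc, hs, Category.id_comp]
  haveI : IsClosedImmersion s' := by
    haveI : IsClosedImmersion (s' ≫ f ∣_ U) := hs' ▸ inferInstance
    exact IsClosedImmersion.of_comp s' (f ∣_ U)
  haveI : IsOpenImmersion (s' ≫ (f ⁻¹ᵁ U).ι) := by
    rw [IsOpenImmersion.lift_fac]; infer_instance
  haveI : IsOpenImmersion s' := IsOpenImmersion.of_comp s' (f ⁻¹ᵁ U).ι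
  haveI : Nonempty (f ⁻¹ᵁ U : X.Opens) := ⟨⟨x, hxU⟩⟩
  haveI : IrreducibleSpace ↥(f ⁻¹ᵁ U : X.Opens) := Subtype.irreducibleSpace
    ⟨⟨x, hxU⟩, (IrreducibleSpace.isIrreducible_univ X).isPreirreducible.open_subset (f ⁻¹ᵁ U).2 (Set.subset_univ _)⟩
  have hclopen : IsClopen (Set.range s') := ⟨s'.isClosedEmbedding.isClosed_range, s'.isOpenEmbedding.isOpen_range⟩
  have huniv : Set.range s' = Set.univ := hclopen.eq_univ ⟨s' ⟨f x, hxU⟩, _, rfl⟩
  haveI : Surjective s' := ⟨Set.range_eq_univ.1 huniv⟩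
  haveI : IsIso s' := (isIso_iff_isOpenImmersion_and_surjective s').2 ⟨inferInstance, inferInstance⟩
  refine ⟨U, hxU, ?_⟩
  rw [show f ∣_ U = inv s' by rw [← IsIso.inv_hom_id_assoc s' (f ∣_ U), hs', Category.comp_id]]
  infer_instance

end Groth.Agent.BiratZMT
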